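import Mathlib

/-!
Changing an equation by a unit so that it becomes smooth at given points.
-/

set_option autoImplicit false
set_option backward.isDefEq.respectTransparency false

universe u

open scoped TensorProduct
open IsLocalRing

noncomputable section

namespace Groth.Agent.UnitSm

variable {k : Type u} [Field k] {A : Type u} [CommRing A] [Algebra k A]

variable (k) in
/-- The class of the differential at a prime. -/
def dbar (q : Ideal A) [q.IsPrime] : A →ₗ[k]
    (Ω[Localization.AtPrime q⁄k] ⧸ (maximalIdeal (Localization.AtPrime q) • ⊤ :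
      Submodule (Localization.AtPrime q) Ω[Localization.AtPrime q⁄k])) :=
  ((Submodule.mkQ _).restrictScalars k).comp
    ((KaehlerDifferential.D k (Localization.AtPrime q)).toLinearMap.comp
      (IsScalarTower.toAlgHom k A (Localization.AtPrime q)).toLinearMap)

theorem derivation_polynomial {M : Type u} [AddCommGroup M] [Module (Polynomial k) M] [Module k M]
    [IsScalarTower k (Polynomial k) M] (D : Derivation k (Polynomial k) M) (p : Polynomial k) :
    D p = Polynomial.derivative p • D Polynomial.X := by
  induction p using Polynomial.induction_on' with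
  | add p q hp hq => rw [map_add, map_add, add_smul, hp, hq]
  | monomial n c =>
    rw [← Polynomial.C_mul_X_pow_eq_monomial, Derivation.leibniz, Derivation.leibniz_pow,
      ← Polynomial.algebraMap_eq, Derivation.map_algebraMap, smul_zero, add_zero, Polynomial.derivative_mul,
      Polynomial.algebraMap_eq, Polynomial.derivative_C, zero_mul, zero_add, Polynomial.derivative_X_pow,
      ← Nat.cast_smul_eq_nsmul (Polynomial k), smul_smul, smul_smul, Polynomial.C_eq_natCast]
    congr 1
    ring

/-- Smoothness over the line of a function with non-vanishing differential. -/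
theorem isSmoothAt_of_dbar_ne_zero [Algebra.FiniteType k A] (q : Ideal A) [q.IsPrime] [Algebra.IsSmoothAt k q]
    [Algebra (Polynomial k) A] [IsScalarTower k (Polynomial k) A]
    (h : dbar k q (algebraMap (Polynomial k) A Polynomial.X) ≠ 0) : Algebra.IsSmoothAt (Polynomial k) q := by
  classical
  let L := Localization.AtPrime q
  haveI : Algebra.EssFiniteType k L := Algebra.EssFiniteType.comp k A L
  haveI : Module.FinitePresentation L Ω[L⁄k] := Module.finitePresentation_of_projective L Ω[L⁄k]
  haveI : Module.Free L Ω[L⁄k] := Module.free_of_flat_of_isLocalRing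
  let b := Module.Free.chooseBasis L Ω[L⁄k]
  let t : L := algebraMap (Polynomial k) L Polynomial.X
  let ω := KaehlerDifferential.D k L t
  have hω : ω ∉ (maximalIdeal L • ⊤ : Submodule L Ω[L⁄k]) := fun hm => h <| by
    show Submodule.Quotient.mk (KaehlerDifferential.D k L (algebraMap A L (algebraMap (Polynomial k) A Polynomial.X))) = 0
    rw [Submodule.Quotient.mk_eq_zero, ← IsScalarTower.algebraMap_apply (Polynomial k) A L]
    exact hm
  obtain ⟨i, hi⟩ : ∃ i, b.repr ω i ∉ maximalIdeal L := by
    by_contra hcon
    push Not at hcon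
    refine hω ?_
    rw [← b.linearCombination_repr ω, Finsupp.linearCombination_apply]
    exact Submodule.sum_mem _ fun i _ => Submodule.smul_mem_smul (hcon i) Submodule.mem_top
  have hu : IsUnit (b.repr ω i) := IsLocalRing.notMem_maximalIdeal.1 hi
  let φ : Ω[L⁄k] →ₗ[L] L := hu.unit⁻¹.val • b.coord i
  have hφ : φ ω = 1 := hu.val_inv_mul
  let e₀ : L ⊗[Polynomial k] Ω[Polynomial k⁄k] := 1 ⊗ₜ KaehlerDifferential.D k (Polynomial k) Polynomial.X
  let r : Ω[L⁄k] →ₗ[L] L ⊗[Polynomial k] Ω[Polynomial k⁄k] := φ.smulRight e₀
  have hmap : ∀ p : Polynomial k, KaehlerDifferential.mapBaseChange k (Polynomial k) L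
      (1 ⊗ₜ KaehlerDifferential.D k (Polynomial k) p) = algebraMap (Polynomial k) L (Polynomial.derivative p) • ω := fun p => by
    rw [derivation_polynomial _ p, KaehlerDifferential.mapBaseChange_tmul, one_smul, map_smul,
      KaehlerDifferential.map_D, algebraMap_smul]
  have hr : r.comp (KaehlerDifferential.mapBaseChange k (Polynomial k) L) = LinearMap.id := by
    refine TensorProduct.AlgebraTensorModule.curry_injective (LinearMap.ext_ring ?_)
    refine LinearMap.ext_on (KaehlerDifferential.span_range_derivation k (Polynomial k)) ?_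
    rintro _ ⟨p, rfl⟩
    show r (KaehlerDifferential.mapBaseChange k (Polynomial k) L (1 ⊗ₜ KaehlerDifferential.D k (Polynomial k) p)) =
      1 ⊗ₜ KaehlerDifferential.D k (Polynomial k) p
    rw [hmap, map_smul]
    show algebraMap (Polynomial k) L (Polynomial.derivative p) • φ ω • e₀ = _
    rw [hφ, one_smul, derivation_polynomial _ p, TensorProduct.tmul_smul, algebraMap_smul]
  have hinj : Function.Injective (KaehlerDifferential.mapBaseChange k (Polynomial k) L) := fun x y hxy => by
    simpa [← LinearMap.comp_apply, hr] using congrArg r hxy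
  refine ⟨?_, ?_⟩
  · let p : Ω[L⁄k] →ₗ[L] Ω[L⁄k] := LinearMap.id - (KaehlerDifferential.mapBaseChange k (Polynomial k) L).comp r
    have hp : LinearMap.ker (KaehlerDifferential.map k (Polynomial k) L L) ≤ LinearMap.ker p := fun x hx => by
      obtain ⟨y, rfl⟩ := (KaehlerDifferential.exact_mapBaseChange_map k (Polynomial k) L x).1 hx
      have := LinearMap.congr_fun hr y
      rw [LinearMap.comp_apply, LinearMap.id_apply] at this
      simp [p, this]
    let g : Ω[L⁄Polynomial k] →ₗ[L] Ω[L⁄k] := (Submodule.liftQ _ p hp).comp
      (LinearMap.quotKerEquivOfSurjective _ (KaehlerDifferential.map_surjective k (Polynomial k) L)).symm.toLinearMap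
    refine Module.Projective.of_split g (KaehlerDifferential.map k (Polynomial k) L L) (LinearMap.ext fun z => ?_)
    obtain ⟨x, rfl⟩ := KaehlerDifferential.map_surjective k (Polynomial k) L z
    have : (LinearMap.quotKerEquivOfSurjective _ (KaehlerDifferential.map_surjective k (Polynomial k) L)).symm
        (KaehlerDifferential.map k (Polynomial k) L L x) = Submodule.Quotient.mk x := by
      rw [LinearEquiv.symm_apply_eq]; rfl
    show KaehlerDifferential.map k (Polynomial k) L L (g _) = _
    simp only [g, LinearMap.comp_apply, LinearEquiv.coe_coe, this, Submodule.liftQ_apply, p, LinearMap.sub_apply,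
      LinearMap.id_apply, map_sub]
    rw [sub_eq_self]
    exact (KaehlerDifferential.exact_mapBaseChange_map k (Polynomial k) L).apply_apply_eq_zero _
  · refine ⟨fun a b => ?_⟩
    have key : ∀ a : Algebra.H1Cotangent (Polynomial k) L, a = 0 := fun a => by
      have h0 : Algebra.H1Cotangent.δ k (Polynomial k) L a = 0 :=
        hinj ((Algebra.H1Cotangent.exact_δ_mapBaseChange k (Polynomial k) L).apply_apply_eq_zero a |>.trans (map_zero _).symm)
      obtain ⟨c, rfl⟩ := (Algebra.H1Cotangent.exact_map_δ k (Polynomial k) L a).1 h0
      rw [Subsingleton.elim c 0, map_zero]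
    rw [key a, key b]

/-- A function `e`, invertible at one prime, with `e·u` having non-vanishing differential at given primes. -/
theorem exists_multiplier [Infinite k] [Algebra.FiniteType k A] (u : A) (p : Ideal A) [p.IsPrime] {ι : Type} [Finite ι]
    (q : ι → Ideal A) [∀ i, (q i).IsPrime] (hu : ∀ i, u ∉ q i) (hmax : ∀ i, ¬ (q i).IsMaximal) :
    ∃ e ∉ p, ∀ i, dbar k (q i) (e * u) ≠ 0 := by
  classical
  let W : Option ι → Submodule k A := fun o => o.elim (p.restrictScalars k)
    fun i => LinearMap.ker ((dbar k (q i)).comp (LinearMap.mulRight k u))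
  have hW : ∀ o, W o ≠ ⊤ := by
    rintro (_ | i) htop
    · exact (‹p.IsPrime›).ne_top ((Ideal.eq_top_iff_one p).2 (show (1 : A) ∈ W none from htop ▸ Submodule.mem_top))
    let L := Localization.AtPrime (q i)
    haveI : Algebra.EssFiniteType k L := Algebra.EssFiniteType.comp k A L
    let N : Submodule L Ω[L⁄k] := maximalIdeal L • ⊤
    have hzero : ∀ e : A, KaehlerDifferential.D k L (algebraMap A L (e * u)) ∈ N := fun e => by
      have h1 : e ∈ W (some i) := htop ▸ Submodule.mem_top
      exact (Submodule.Quotient.mk_eq_zero _).1 h1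
    have hdu : KaehlerDifferential.D k L (algebraMap A L u) ∈ N := by simpa using hzero 1
    have hunit : IsUnit (algebraMap A L u) := IsLocalization.map_units L (⟨u, hu i⟩ : (q i).primeCompl)
    have hd : ∀ e : A, KaehlerDifferential.D k L (algebraMap A L e) ∈ N := fun e => by
      have h1 := hzero e
      rw [map_mul, Derivation.leibniz] at h1
      exact (Submodule.smul_mem_iff_of_isUnit _ hunit).1
        ((Submodule.add_mem_iff_right _ (N.smul_mem (algebraMap A L e) hdu)).1 h1)
    have htopN : (⊤ : Submodule L Ω[L⁄k]) ≤ N := by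
      rw [← KaehlerDifferential.span_range_derivation k L, Submodule.span_le]
      rintro _ ⟨x, rfl⟩
      obtain ⟨⟨a, s⟩, hs⟩ := IsLocalization.surj (q i).primeCompl x
      have h1 := congrArg (KaehlerDifferential.D k L) hs
      rw [Derivation.leibniz] at h1
      refine (Submodule.smul_mem_iff_of_isUnit _ (IsLocalization.map_units L s)).1 ?_
      exact (Submodule.add_mem_iff_right _ (N.smul_mem x (hd s.1))).1 (h1 ▸ hd a)
    have hΩ : (⊤ : Submodule L Ω[L⁄k]) = ⊥ := Submodule.eq_bot_of_le_smul_of_le_jacobson_bot (maximalIdeal L) _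
      Module.Finite.fg_top htopN (IsLocalRing.maximalIdeal_le_jacobson ⊥)
    haveI : Algebra.FormallyUnramified k L :=
      ⟨⟨fun a b => by
        rw [(Submodule.mem_bot L).1 (hΩ ▸ Submodule.mem_top : a ∈ (⊥ : Submodule L Ω[L⁄k])),
          (Submodule.mem_bot L).1 (hΩ ▸ Submodule.mem_top : b ∈ (⊥ : Submodule L Ω[L⁄k]))]⟩⟩
    haveI : Module.Finite k L := Algebra.FormallyUnramified.finite_of_free k L
    -- then `A / q` is a field
    haveI : Module.Finite k (ResidueField L) :=
      Module.Finite.of_surjective ((IsScalarTower.toAlgHom k L (ResidueField L)).toLinearMap) IsLocalRing.residue_surjective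
    let ρ : A →ₐ[k] ResidueField L := IsScalarTower.toAlgHom k A _
    have hker : RingHom.ker ρ = q i := by
      ext a
      show algebraMap A (ResidueField L) a = 0 ↔ _
      rw [IsScalarTower.algebraMap_apply A L (ResidueField L), IsLocalRing.ResidueField.algebraMap_eq,
        IsLocalRing.residue_eq_zero_iff, IsLocalization.AtPrime.to_map_mem_maximal_iff L (q i)]
    haveI : Module.Finite k ρ.range := Module.Finite.of_injective ρ.range.val.toLinearMap Subtype.val_injective
    have hf : IsField ρ.range := isField_of_isIntegral_of_isField' (Semifield.toIsField k)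
    have hk : RingHom.ker ρ.rangeRestrict = q i := (by ext; simp [Subtype.ext_iff] : RingHom.ker ρ.rangeRestrict = RingHom.ker ρ).trans hker
    have hmax' := Ideal.Quotient.maximal_of_isField (RingHom.ker ρ.rangeRestrict)
      ((Ideal.quotientKerAlgEquivOfSurjective ρ.rangeRestrict_surjective).toRingEquiv.toMulEquiv.isField hf)
    exact hmax i (hk ▸ hmax')
  haveI := Fintype.ofFinite ι
  have := Subspace.biUnion_ne_univ_of_top_notMem (s := Finset.univ.image W) (by
    intro hm
    obtain ⟨o, -, ho⟩ := Finset.mem_image.1 hm
    exact hW o ho)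
  obtain ⟨e, he⟩ := (Set.ne_univ_iff_exists_notMem _).1 this
  simp only [Set.mem_iUnion, not_exists, Finset.mem_image, Finset.mem_univ, true_and, forall_exists_index, forall_apply_eq_imp_iff] at he
  exact ⟨e, fun h => he none h, fun i h => he (some i) h⟩

end Groth.Agent.UnitSm
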